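import Mathlib.Algebra.Category.Grp.Abelian
import Mathlib.Algebra.Category.Grp.Adjunctions
import Mathlib.Algebra.Category.Grp.EpiMono
import Mathlib.Algebra.Category.Grp.Limits
import Mathlib.Algebra.Homology.ShortComplex.Ab
import Mathlib.Algebra.Homology.ShortComplex.PreservesHomology
import Mathlib.CategoryTheory.Abelian.FunctorCategory
import Mathlib.CategoryTheory.Abelian.RightDerived
import Mathlib.CategoryTheory.Limits.FunctorCategory.Basic
import Mathlib.CategoryTheory.Limits.Types.Limits

/-!
Injective towers of abelian groups have surjective transition maps; `lim^i = 0` for `i ≥ 2`.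
-/

set_option autoImplicit false
universe u

open CategoryTheory CategoryTheory.Limits Opposite

namespace Groth.Agent.LimTower

abbrev Tw := ℕᵒᵖ ⥤ AddCommGrpCat.{u}

/-- the representable tower at `n` -/
noncomputable def U (n : ℕ) : Tw.{u} where
  obj m := AddCommGrpCat.of (FreeAbelianGroup (ULift.{u} (op n ⟶ m)))
  map g := AddCommGrpCat.ofHom (FreeAbelianGroup.map fun h => ULift.up (h.down ≫ g))
  map_id m := by
    apply AddCommGrpCat.hom_ext
    exact FreeAbelianGroup.lift_ext _ _ fun x => by simp
  map_comp f g := by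
    apply AddCommGrpCat.hom_ext
    exact FreeAbelianGroup.lift_ext _ _ fun x => by simp

/-- the transition step -/
abbrev step (n : ℕ) : op (n + 1) ⟶ op n := (homOfLE (Nat.le_succ n)).op

/-- `U n ⟶ U (n+1)` -/
noncomputable def incl (n : ℕ) : U.{u} n ⟶ U (n + 1) where
  app m := AddCommGrpCat.ofHom (FreeAbelianGroup.map fun h => ULift.up (step n ≫ h.down))
  naturality m m' g := by
    apply AddCommGrpCat.hom_ext
    exact FreeAbelianGroup.lift_ext _ _ fun x => by simp [U]; rfl

instance mono_incl (n : ℕ) : Mono (incl.{u} n) := by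
  have : ∀ m, Mono ((incl.{u} n).app m) := fun m => by
    rw [AddCommGrpCat.mono_iff_injective]
    by_cases h : Nonempty (ULift.{u} (op n ⟶ m))
    · obtain ⟨g⟩ := h
      refine Function.LeftInverse.injective
        (g := FreeAbelianGroup.map fun _ : ULift.{u} (op (n + 1) ⟶ m) => g) fun x => ?_
      change FreeAbelianGroup.map _ (FreeAbelianGroup.map _ x) = x
      rw [← AddMonoidHom.comp_apply, ← FreeAbelianGroup.map_comp]
      conv_rhs => rw [← FreeAbelianGroup.map_id_apply x]
      congr 2
      funext y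
      exact Subsingleton.elim _ _
    · intro x y _
      haveI : IsEmpty (ULift.{u} (op n ⟶ m)) := not_nonempty_iff.1 h
      haveI : Subsingleton (FreeAbelianGroup (ULift.{u} (op n ⟶ m))) := subsingleton_of_forall_eq 0
        fun z => by
          induction z using FreeAbelianGroup.induction_on with
          | zero => rfl
          | of g => exact (IsEmpty.false g).elim
          | neg g _ => exact (IsEmpty.false g).elim
          | add a b ha hb => rw [ha, hb, add_zero]
      exact @Subsingleton.elim (FreeAbelianGroup (ULift.{u} (op n ⟶ m))) _ x y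
  exact NatTrans.mono_of_mono_app _

/-- the map classified by an element -/
noncomputable def ofElt (I : Tw.{u}) (n : ℕ) (x : I.obj (op n)) : U n ⟶ I where
  app m := AddCommGrpCat.ofHom (FreeAbelianGroup.lift fun h => I.map h.down x)
  naturality m m' g := by
    apply AddCommGrpCat.hom_ext
    exact FreeAbelianGroup.lift_ext _ _ fun h => by simp [U]

theorem surjective_of_injective (I : Tw.{u}) [Injective I] (n : ℕ) :
    Function.Surjective (I.map (step n)) := fun x => by
  let β := Injective.factorThru (ofElt I n x) (incl n)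
  refine ⟨β.app (op (n + 1)) (FreeAbelianGroup.of ⟨𝟙 _⟩), ?_⟩
  have h1 : I.map (step n) (β.app (op (n + 1)) (FreeAbelianGroup.of ⟨𝟙 _⟩)) =
      β.app (op n) ((U (n + 1)).map (step n) (FreeAbelianGroup.of ⟨𝟙 _⟩)) :=
    (congr($(β.naturality (step n)) (FreeAbelianGroup.of ⟨𝟙 _⟩))).symm
  rw [h1]
  have h2 : (U (n + 1)).map (step n) (FreeAbelianGroup.of ⟨𝟙 _⟩) =
      (incl.{u} n).app (op n) (FreeAbelianGroup.of ⟨𝟙 _⟩) := by
    change FreeAbelianGroup.map _ _ = FreeAbelianGroup.map _ _
    rw [FreeAbelianGroup.map_of_apply, FreeAbelianGroup.map_of_apply]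
    congr 1
  rw [h2]
  have h3 : ((incl n ≫ β).app (op n)) (FreeAbelianGroup.of ⟨𝟙 _⟩) = x := by
    rw [Injective.comp_factorThru]
    change FreeAbelianGroup.lift _ _ = x
    rw [FreeAbelianGroup.lift_apply_of]
    simp
  exact h3

theorem compat_map {F : Tw.{u}} {y : ∀ n, F.obj (op n)} (h : ∀ n, F.map (step n) (y (n + 1)) = y n)
    {a b : ℕ} (hab : a ≤ b) : F.map (homOfLE hab).op (y b) = y a := by
  induction b, hab using Nat.le_induction with
  | base => simp
  | succ b hab ih =>
    rw [← homOfLE_comp hab (Nat.le_succ b), op_comp, Functor.map_comp]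
    change F.map (homOfLE hab).op (F.map (step b) (y (b + 1))) = _
    rw [h, ih]

theorem exists_lim (F : Tw.{u}) (y : ∀ n, F.obj (op n)) (h : ∀ n, F.map (step n) (y (n + 1)) = y n) :
    ∃ z : (limit F : AddCommGrpCat.{u}), ∀ n, limit.π F (op n) z = y n := by
  let c : Cone F :=
    { pt := AddCommGrpCat.of (FreeAbelianGroup PUnit.{u + 1})
      π :=
        { app := fun m => AddCommGrpCat.ofHom (FreeAbelianGroup.lift fun _ => y m.unop)
          naturality := fun m m' g => by
            apply AddCommGrpCat.hom_ext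
            refine FreeAbelianGroup.lift_ext _ _ fun _ => ?_
            simp only [Functor.const_obj_map, Category.id_comp, AddCommGrpCat.hom_comp,
              AddMonoidHom.comp_apply, AddCommGrpCat.hom_ofHom, FreeAbelianGroup.lift_apply_of]
            rw [Subsingleton.elim g (homOfLE (leOfHom g.unop)).op]
            refine Eq.trans ?_ (compat_map h _).symm
            exact FreeAbelianGroup.lift_apply_of _ _ } }
  refine ⟨limit.lift F c (FreeAbelianGroup.of PUnit.unit), fun n => ?_⟩
  have := congr($(limit.lift_π c (op n)) (FreeAbelianGroup.of PUnit.unit))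
  exact this.trans (FreeAbelianGroup.lift_apply_of _ _)

theorem lim_ext (F : Tw.{u}) {a b : (limit F : AddCommGrpCat.{u})}
    (h : ∀ n, limit.π F (op n) a = limit.π F (op n) b) : a = b :=
  Concrete.limit_ext F a b fun j => h j.unop

theorem lim_surjOn {P Q R : Tw.{u}} (e : P ⟶ Q) (f : Q ⟶ R)
    (hP : ∀ n, Function.Surjective (P.map (step n)))
    (hex : ∀ n (y : Q.obj (op n)), f.app (op n) y = 0 → ∃ w, e.app (op n) w = y)
    (hcomp : ∀ m (w : P.obj m), f.app m (e.app m w) = 0) (x : (limit R : AddCommGrpCat.{u}))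
    (hx : ∀ n, ∃ y, f.app (op n) y = limit.π R (op n) x) :
    ∃ z : (limit Q : AddCommGrpCat.{u}), limMap f z = x := by
  have hcompat : ∀ n, R.map (step n) (limit.π R (op (n + 1)) x) = limit.π R (op n) x :=
    fun n => congr($(limit.w R (step n)) x)
  have hstep : ∀ n (y : Q.obj (op n)), f.app (op n) y = limit.π R (op n) x →
      ∃ y' : Q.obj (op (n + 1)), Q.map (step n) y' = y ∧ f.app (op (n + 1)) y' = limit.π R (op (n + 1)) x := by
    intro n y hy
    obtain ⟨y₀, hy₀⟩ := hx (n + 1)
    have h1 : f.app (op n) (Q.map (step n) y₀ - y) = 0 := by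
      rw [map_sub, sub_eq_zero, hy]
      exact (congr($(f.naturality (step n)) y₀)).trans ((congrArg _ hy₀).trans (hcompat n))
    obtain ⟨w, hw⟩ := hex n _ h1
    obtain ⟨w', rfl⟩ := hP n w
    refine ⟨y₀ - e.app (op (n + 1)) w', ?_, ?_⟩
    · rw [map_sub, show Q.map (step n) (e.app (op (n + 1)) w') = e.app (op n) (P.map (step n) w') from
        (congr($(e.naturality (step n)) w')).symm, hw, sub_sub_cancel]
    · rw [map_sub, hy₀, hcomp, sub_zero]
  classical
  let seq : ∀ n, { y : Q.obj (op n) // f.app (op n) y = limit.π R (op n) x } :=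
    Nat.rec ⟨(hx 0).choose, (hx 0).choose_spec⟩
      fun n s => ⟨(hstep n s.1 s.2).choose, (hstep n s.1 s.2).choose_spec.2⟩
  obtain ⟨z, hz⟩ := exists_lim Q (fun n => (seq n).1)
    fun n => (hstep n (seq n).1 (seq n).2).choose_spec.1
  refine ⟨z, lim_ext R fun n => ?_⟩
  rw [← (seq n).2, ← hz n]
  exact congr($(limMap_π f (op n)) z)

theorem isZero_rightDerived_lim [EnoughInjectives Tw.{u}]
    [(lim : Tw.{u} ⥤ AddCommGrpCat.{u}).Additive] (A : Tw.{u}) (i : ℕ) (hi : 2 ≤ i) :
    IsZero (((lim : Tw.{u} ⥤ AddCommGrpCat.{u}).rightDerived i).obj A) := by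
  obtain ⟨j, rfl⟩ : ∃ j, i = j + 2 := ⟨i - 2, by omega⟩
  let J := InjectiveResolution.of A
  let L : Tw.{u} ⥤ AddCommGrpCat.{u} := lim
  refine IsZero.of_iso ?_ (J.isoRightDerivedObj L (j + 2))
  change IsZero (HomologicalComplex.homology _ _)
  rw [← HomologicalComplex.exactAt_iff_isZero_homology,
    HomologicalComplex.exactAt_iff' _ (j + 1) (j + 2) (j + 3) (by simp) (by simp),
    ShortComplex.ab_exact_iff]
  intro (x : (limit (J.cocomplex.X (j + 2)) : AddCommGrpCat.{u})) hx
  change limMap (J.cocomplex.d (j + 2) (j + 3)) x = 0 at hx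
  have hpt : ∀ (k : ℕ) (n : ℕ) (y : (J.cocomplex.X (k + 1)).obj (op n)),
      (J.cocomplex.d (k + 1) (k + 2)).app (op n) y = 0 →
      ∃ w, (J.cocomplex.d k (k + 1)).app (op n) w = y := by
    intro k n y hy
    have h1 := J.exact_succ k
    have h2 := h1.map ((evaluation ℕᵒᵖ AddCommGrpCat.{u}).obj (op n))
    exact (ShortComplex.ab_exact_iff _).1 h2 y hy
  refine lim_surjOn (J.cocomplex.d j (j + 1)) (J.cocomplex.d (j + 1) (j + 2))
    (fun n => surjective_of_injective _ n) (hpt j) (fun m w => congr($(congr_app (J.cocomplex.d_comp_d j (j + 1) (j + 2)) m) w)) x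
    fun n => hpt (j + 1) n _ ?_
  have h3 := congr($(limMap_π (J.cocomplex.d (j + 2) (j + 3)) (op n)) x)
  refine h3.symm.trans ?_
  change limit.π (J.cocomplex.X (j + 3)) (op n) (limMap (J.cocomplex.d (j + 2) (j + 3)) x) = 0
  rw [hx]
  exact map_zero (limit.π (J.cocomplex.X (j + 3)) (op n)).hom

end Groth.Agent.LimTower
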